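import Cfsg.Agent.Lib.DerivedBound.BFC
import Mathlib.GroupTheory.Sylow
import Mathlib.RingTheory.Int.Basic
import Mathlib.RingTheory.Coprime.Lemmas
import Mathlib.Data.Nat.Factorization.Induction

/-!
# Bounded classes of prime power elements bound all classes
-/

set_option autoImplicit false
set_option linter.style.haveILetI false
set_option linter.unusedSectionVars false

namespace CfsgLib.DerivedBound

variable {G : Type*} [Group G] [Finite G]

theorem index_centralizer_conj (x g : G) :
    (Subgroup.centralizer ({g * x * g⁻¹} : Set G)).index =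
      (Subgroup.centralizer ({x} : Set G)).index := by
  rw [← card_conjs, ← card_conjs]
  exact Nat.card_congr (Equiv.subtypeEquivRight fun c =>
    ⟨fun h => (isConj_iff.mpr ⟨g, rfl⟩ : IsConj x (g * x * g⁻¹)).trans h,
      fun h => (isConj_iff.mpr ⟨g, rfl⟩ : IsConj x (g * x * g⁻¹)).symm.trans h⟩)

theorem index_mul_le (x y : G) :
    (Subgroup.centralizer ({x * y} : Set G)).index ≤
      (Subgroup.centralizer ({x} : Set G)).index * (Subgroup.centralizer ({y} : Set G)).index := by
  refine le_trans ?_ Subgroup.index_inf_le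
  refine Nat.le_of_dvd (Nat.pos_of_ne_zero Subgroup.index_ne_zero_of_finite)
    (Subgroup.index_dvd_of_le fun g hg => ?_)
  obtain ⟨h1, h2⟩ := Subgroup.mem_inf.mp hg
  rw [Subgroup.mem_centralizer_singleton_iff] at h1 h2 ⊢
  rw [← mul_assoc, h1, mul_assoc, h2, mul_assoc]

/-- If prime power elements have classes of size at most `M`, all classes are bounded. -/
theorem index_centralizer_le {M : ℕ} (hM : 1 ≤ M)
    (h : ∀ p : ℕ, p.Prime → ∀ x : G, (∃ k, orderOf x = p ^ k) →
      (Subgroup.centralizer ({x} : Set G)).index ≤ M) (g : G) :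
    (Subgroup.centralizer ({g} : Set G)).index ≤ M ^ (M + 1) := by
  classical
  let S : ℕ → ℕ := fun n => (n.primeFactors.filter (· ≤ M)).card
  have hbig : ∀ p : ℕ, p.Prime → M < p → ∀ y : G, (∃ k, orderOf y = p ^ k) →
      ∀ r : ℕ, r.Prime → ∀ u : G, (∃ k, orderOf u = r ^ k) → u * y = y * u := by
    intro p hp hpM y ⟨k, hk⟩ r hr u hu
    have h1 := h r hr u hu
    set C := Subgroup.centralizer ({u} : Set G)
    have h2 : C.relIndex (Subgroup.zpowers y) ≤ M := by
      refine le_trans ?_ h1
      rw [← Subgroup.relIndex_top_right]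
      exact Subgroup.relIndex_le_of_le_right le_top
        (by rw [Subgroup.relIndex_top_right]; exact Subgroup.index_ne_zero_of_finite)
    have h3 : C.relIndex (Subgroup.zpowers y) ∣ p ^ k := by
      rw [← hk, ← Nat.card_zpowers]
      exact Subgroup.relIndex_dvd_card _ _
    obtain ⟨j, -, hj⟩ := (Nat.dvd_prime_pow hp).mp h3
    have hj0 : j = 0 := by
      by_contra hj0
      have := Nat.le_self_pow hj0 p
      omega
    rw [hj0, pow_zero, Subgroup.relIndex_eq_one] at hj
    exact (Subgroup.mem_centralizer_singleton_iff.mp (hj (Subgroup.mem_zpowers y))).symm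
  have split : ∀ g : G, ∀ a b : ℕ, orderOf g = a * b → a.Coprime b →
      ∃ g₁ g₂ : G, g = g₁ * g₂ ∧ orderOf g₁ ∣ a ∧ orderOf g₂ ∣ b := by
    intro g a b hg hab
    obtain ⟨i, j, hij⟩ : ∃ i j : ℤ, i * a + j * b = 1 := Int.isCoprime_iff_nat_coprime.mpr (by simpa using hab)
    refine ⟨g ^ (j * b), g ^ (i * a), ?_, ?_, ?_⟩
    · rw [← zpow_add, add_comm, hij, zpow_one]
    · apply orderOf_dvd_of_pow_eq_one
      rw [← zpow_natCast, ← zpow_mul, show j * b * (a : ℤ) = ((a * b : ℕ) : ℤ) * j by push_cast; ring,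
        zpow_mul, zpow_natCast, ← hg, pow_orderOf_eq_one, one_zpow]
    · apply orderOf_dvd_of_pow_eq_one
      rw [← zpow_natCast, ← zpow_mul, show i * a * (b : ℤ) = ((a * b : ℕ) : ℤ) * i by push_cast; ring,
        zpow_mul, zpow_natCast, ← hg, pow_orderOf_eq_one, one_zpow]
  have hgen : ∀ n : ℕ, ∀ g : G, orderOf g = n → ∀ y : G,
      (∀ r : ℕ, r.Prime → ∀ u : G, (∃ k, orderOf u = r ^ k) → u * y = y * u) → g * y = y * g := by
    intro n
    induction n using Nat.strong_induction_on with
    | _ n ih =>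
      intro g hg y hy
      rcases eq_or_ne n 1 with h1 | h1
      · rw [orderOf_eq_one_iff.mp (hg.trans h1), one_mul, mul_one]
      obtain ⟨r, hr, hrn⟩ := Nat.exists_prime_and_dvd h1
      have hn0 : n ≠ 0 := hg ▸ (orderOf_pos g).ne'
      obtain ⟨g₁, g₂, he, hd1, hd2⟩ := split g (r ^ n.factorization r) (n / r ^ n.factorization r)
        (by rw [hg, Nat.mul_div_cancel' (Nat.ordProj_dvd n r)])
        (Nat.Coprime.pow_left _ (Nat.coprime_ordCompl hr hn0))
      obtain ⟨k, -, hk⟩ := (Nat.dvd_prime_pow hr).mp hd1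
      have c1 : g₁ * y = y * g₁ := hy r hr g₁ ⟨k, hk⟩
      have hlt : n / r ^ n.factorization r < n :=
        Nat.div_lt_self (Nat.pos_of_ne_zero hn0)
          (Nat.one_lt_pow (hr.factorization_pos_of_dvd hn0 hrn).ne' hr.one_lt)
      have c2 : g₂ * y = y * g₂ :=
        ih _ (lt_of_le_of_lt (Nat.le_of_dvd (Nat.ordCompl_pos r hn0) hd2) hlt) g₂ rfl y hy
      rw [he, mul_assoc, c2, ← mul_assoc, c1, mul_assoc]
  have main : ∀ n : ℕ, ∀ g : G, orderOf g ∣ n → n ≠ 0 →
      (Subgroup.centralizer ({g} : Set G)).index ≤ M ^ S n := by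
    intro n
    induction n using Nat.recOnPosPrimePosCoprime with
    | zero => intro g _ h0; exact absurd rfl h0
    | one =>
      intro g hg _
      rw [orderOf_eq_one_iff.mp (Nat.dvd_one.mp hg),
        Subgroup.index_eq_one.mpr (eq_top_iff.mpr fun z _ => by
          rw [Subgroup.mem_centralizer_singleton_iff, mul_one, one_mul])]
      exact Nat.one_le_pow _ _ hM
    | prime_pow p k hp hk =>
      intro g hg _
      obtain ⟨j, -, hj⟩ := (Nat.dvd_prime_pow hp).mp hg
      have hS : (p ^ k).primeFactors = {p} := Nat.primeFactors_prime_pow hk.ne' hp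
      by_cases hpM : p ≤ M
      · have : S (p ^ k) = 1 := by
          simp only [S, hS, Finset.filter_singleton, if_pos hpM, Finset.card_singleton]
        rw [this, pow_one]
        exact h p hp g ⟨j, hj⟩
      · refine le_trans (le_of_eq (Subgroup.index_eq_one.mpr (eq_top_iff.mpr fun z _ => ?_)))
          (Nat.one_le_pow _ _ hM)
        rw [Subgroup.mem_centralizer_singleton_iff]
        exact hgen _ z rfl g (hbig p hp (not_le.mp hpM) g ⟨j, hj⟩)
    | coprime a b ha hb hab iha ihb =>
      intro g hg _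
      obtain ⟨a', b', hab'⟩ : ∃ a' b', orderOf g = a' * b' ∧ a' ∣ a ∧ b' ∣ b := by
        obtain ⟨a', b', h1, h2, h3⟩ := exists_dvd_and_dvd_of_dvd_mul hg
        exact ⟨a', b', h3, h1, h2⟩
      obtain ⟨g₁, g₂, he, hd1, hd2⟩ := split g a' b' hab'.1
        ((hab.coprime_dvd_left hab'.2.1).coprime_dvd_right hab'.2.2)
      rw [he]
      refine (index_mul_le g₁ g₂).trans ((Nat.mul_le_mul (iha g₁ (hd1.trans hab'.2.1) (by omega))
        (ihb g₂ (hd2.trans hab'.2.2) (by omega))).trans_eq ?_)
      rw [← pow_add]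
      congr 1
      simp only [S]
      rw [Nat.Coprime.primeFactors_mul hab, Finset.filter_union, Finset.card_union_of_disjoint]
      exact Finset.disjoint_filter_filter hab.disjoint_primeFactors
  refine (main _ g dvd_rfl (orderOf_pos g).ne').trans (Nat.pow_le_pow_right hM ?_)
  refine (Finset.card_le_card (t := Finset.range (M + 1)) ?_).trans_eq (Finset.card_range _)
  intro p hp
  rw [Finset.mem_range, Nat.lt_succ_iff]
  exact (Finset.mem_filter.mp hp).2

end CfsgLib.DerivedBound
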