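import Mathlib.GroupTheory.Schreier
import Mathlib.Data.Fintype.Lattice
import Mathlib.GroupTheory.GroupAction.ConjAct
import Mathlib.GroupTheory.GroupAction.Quotient
import Mathlib.Algebra.Order.BigOperators.GroupWithZero.Finset

/-!
# Bounded conjugacy classes give a bounded derived subgroup
-/

set_option autoImplicit false
set_option linter.style.haveILetI false
set_option linter.unusedSectionVars false

open scoped commutatorElement

namespace CfsgLib.DerivedBound

variable {G : Type*} [Group G] [Finite G]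

theorem card_conjs (x : G) :
    Nat.card {c : G // IsConj x c} = (Subgroup.centralizer ({x} : Set G)).index := by
  rw [Subgroup.index]
  refine Nat.card_congr ?_
  refine Equiv.trans (Equiv.subtypeEquiv ConjAct.toConjAct.toEquiv fun c => ?_)
    ((MulAction.orbitEquivQuotientStabilizer (ConjAct G) (ConjAct.toConjAct x |> ConjAct.ofConjAct)).trans ?_)
  · show IsConj x c ↔ ConjAct.ofConjAct (ConjAct.toConjAct c) ∈ MulAction.orbit (ConjAct G) x
    rw [ConjAct.mem_orbit_conjAct, isConj_comm]
    rfl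
  · exact Subgroup.quotientEquivOfEq (ConjAct.stabilizer_eq_centralizer x)

/-- Neumann: bounded classes bound the number of commutators. -/
theorem card_commutatorSet_le (M : ℕ)
    (h : ∀ x : G, (Subgroup.centralizer ({x} : Set G)).index ≤ M) :
    Nat.card (commutatorSet G) ≤ M * M * M * (M ^ M) * M := by
  classical
  haveI := Fintype.ofFinite G
  obtain ⟨x, hx⟩ := Finite.exists_max (α := G) (fun x : G => Nat.card {c : G // IsConj x c})
  have hcl : ∀ y : G, Nat.card {c : G // IsConj y c} ≤ M := fun y => (card_conjs y).trans_le (h y)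
  have hM : 1 ≤ M := le_trans (Nat.one_le_iff_ne_zero.mpr Subgroup.index_ne_zero_of_finite) (h 1)
  choose r hr using fun c : {c : G // IsConj x c} => isConj_iff.mp c.2
  set U : Subgroup G := ⨅ c, Subgroup.centralizer ({r c} : Set G) with hU
  have hUi : Nat.card (G ⧸ U) ≤ M ^ M := by
    rw [← Subgroup.index]
    refine (Subgroup.index_iInf_le _).trans ?_
    refine (Finset.prod_le_prod' fun c _ => h (r c)).trans ?_
    rw [Finset.prod_const, Finset.card_univ, ← Nat.card_eq_fintype_card]
    exact Nat.pow_le_pow_right hM (hcl x)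
  have key : ∀ u ∈ U, ∀ b : G, ∃ c c' : {c : G // IsConj x c}, ∃ e : G,
      IsConj ((c : G) * (c' : G)⁻¹) e ∧ ⁅u, b⁆ = e := by
    intro u hu b
    have hur : ∀ c, r c * u = u * r c := fun c =>
      Subgroup.mem_centralizer_singleton_iff.mp (Subgroup.mem_iInf.mp hu c) |>.symm
    let f : {c : G // IsConj x c} → {e : G // IsConj (u * x) e} := fun c => ⟨u * c, by
      rw [isConj_iff]
      exact ⟨r c, by rw [← mul_assoc, hur c, mul_assoc u, mul_assoc u]; exact congrArg (u * ·) (hr c)⟩⟩
    have hf : Function.Injective f := fun c c' e =>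
      Subtype.ext (mul_left_cancel (congrArg Subtype.val e))
    haveI : Fintype {e : G // IsConj (u * x) e} := Fintype.ofFinite _
    have hbij : Function.Bijective f := hf.bijective_of_nat_card_le (hx (u * x))
    obtain ⟨c, hc⟩ := hbij.2 ⟨b * (u * x) * b⁻¹, isConj_iff.mpr ⟨b, rfl⟩⟩
    have hc' : u * (c : G) = b * (u * x) * b⁻¹ := congrArg Subtype.val hc
    let c' : {c : G // IsConj x c} := ⟨b * x * b⁻¹, isConj_iff.mpr ⟨b, rfl⟩⟩
    refine ⟨c', c, u * ((c' : G) * (c : G)⁻¹) * u⁻¹, isConj_iff.mpr ⟨u, rfl⟩, ?_⟩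
    have hb : b * u⁻¹ * b⁻¹ = (b * x * b⁻¹) * (c : G)⁻¹ * u⁻¹ := by
      rw [mul_assoc (b * x * b⁻¹), ← mul_inv_rev, hc']
      group
    show u * b * u⁻¹ * b⁻¹ = u * ((b * x * b⁻¹) * (c : G)⁻¹) * u⁻¹
    rw [mul_assoc u b, mul_assoc u (b * u⁻¹), hb]
    group
  let X := Σ (d : {c : G // IsConj x c} × {c : G // IsConj x c}),
    Σ (_ : {e : G // IsConj ((d.1 : G) * (d.2 : G)⁻¹) e}),
    Σ (q : G ⧸ U), {f : G // IsConj q.out⁻¹ f}
  let φ : X → G := fun t => (t.2.1 : G) * t.2.2.1.out * (t.2.2.2 : G)
  have hsub : commutatorSet G ⊆ Set.range φ := by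
    rintro g ⟨a, b, rfl⟩
    set q : G ⧸ U := (a : G ⧸ U) with hq
    set t := q.out with ht
    have hu : t⁻¹ * a ∈ U := QuotientGroup.eq.mp (by rw [ht]; exact QuotientGroup.out_eq' q)
    obtain ⟨c, c', e, he, heq⟩ := key _ hu b
    refine ⟨⟨(c, c'), ⟨t * e * t⁻¹, he.trans (isConj_iff.mpr ⟨t, rfl⟩)⟩, q,
      ⟨b * t⁻¹ * b⁻¹, isConj_iff.mpr ⟨b, rfl⟩⟩⟩, ?_⟩
    show t * e * t⁻¹ * t * (b * t⁻¹ * b⁻¹) = ⁅a, b⁆
    rw [← heq, commutatorElement_def, commutatorElement_def]
    group
  calc Nat.card (commutatorSet G) ≤ Nat.card (Set.range φ) :=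
        Nat.card_mono (Set.toFinite _) hsub
    _ ≤ Nat.card X := Finite.card_range_le φ
    _ ≤ M * M * M * (M ^ M) * M := by
        show Nat.card (Σ d, _) ≤ _
        rw [Nat.card_sigma]
        refine (Finset.sum_le_card_nsmul _ _ (M * (M ^ M * M)) fun d _ => ?_).trans ?_
        · rw [Nat.card_sigma]
          refine (Finset.sum_le_card_nsmul _ _ (M ^ M * M) fun e _ => ?_).trans ?_
          · rw [Nat.card_sigma]
            refine (Finset.sum_le_card_nsmul _ _ M fun q _ => hcl _).trans ?_
            rw [smul_eq_mul, Finset.card_univ, ← Nat.card_eq_fintype_card]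
            exact Nat.mul_le_mul_right _ hUi
          · rw [smul_eq_mul, Finset.card_univ, ← Nat.card_eq_fintype_card]
            exact Nat.mul_le_mul_right _ (hcl _)
        · rw [smul_eq_mul, Finset.card_univ, ← Nat.card_eq_fintype_card, Nat.card_prod]
          calc _ ≤ M * M * (M * (M ^ M * M)) :=
                Nat.mul_le_mul_right _ (Nat.mul_le_mul (hcl x) (hcl x))
            _ = _ := by ring

/-- A bound for the derived subgroup in terms of the class sizes. -/
noncomputable def derivedBound (M : ℕ) : ℕ :=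
  (Finset.range (M * M * M * (M ^ M) * M + 1)).sup Subgroup.cardCommutatorBound

theorem card_commutator_le (M : ℕ)
    (h : ∀ x : G, (Subgroup.centralizer ({x} : Set G)).index ≤ M) :
    Nat.card (commutator G) ≤ derivedBound M :=
  (Subgroup.card_commutator_le_of_finite_commutatorSet (G := G)).trans
    (Finset.le_sup (f := Subgroup.cardCommutatorBound)
      (Finset.mem_range.mpr (Nat.lt_succ_of_le (card_commutatorSet_le M h))))

end CfsgLib.DerivedBound
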