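import Cfsg.Agent.Lib.Coprime.Generation

/-!
# A `p`-group under a noncyclic coprime abelian action is an ordered product of fixed point groups
-/

set_option autoImplicit false
set_option linter.style.haveILetI false
set_option linter.unusedSectionVars false

open scoped commutatorElement

namespace CfsgLib.DerivedBound

theorem prod_map_mul_central {Q : Type*} [Group Q] {ι : Type*} (f g : ι → Q)
    (hg : ∀ i, g i ∈ Subgroup.center Q) :
    ∀ l : List ι, (l.map fun i => f i * g i).prod = (l.map f).prod * (l.map g).prod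
  | [] => by simp
  | i :: l => by
    simp only [List.map_cons, List.prod_cons]
    rw [prod_map_mul_central f g hg l, mul_assoc (f i), ← mul_assoc (g i),
      ← Subgroup.mem_center_iff.mp (hg i), mul_assoc, mul_assoc]

theorem prod_map_update {Q : Type*} [Monoid Q] {ι : Type*} [DecidableEq ι] (b : ι) (x : Q) :
    ∀ l : List ι, l.Nodup → b ∈ l → (l.map fun i => if i = b then x else 1).prod = x
  | [], _, h => (List.not_mem_nil h).elim
  | i :: l, hnd, h => by
    obtain ⟨hil, hl⟩ := List.nodup_cons.mp hnd
    simp only [List.map_cons, List.prod_cons]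
    by_cases e : i = b
    · subst e
      have : (l.map fun j => if j = i then x else 1).prod = 1 := List.prod_eq_one fun y hy => by
        obtain ⟨j, hj, rfl⟩ := List.mem_map.mp hy
        exact if_neg fun e : j = i => hil (e ▸ hj)
      rw [if_pos rfl, this, mul_one]
    · rw [if_neg e, one_mul]
      exact prod_map_update b x l hl ((List.mem_cons.mp h).resolve_left (Ne.symm e))

variable {Γ : Type*} [Group Γ] [Finite Γ]

/-- The list of nonidentity elements of a subgroup. -/
noncomputable def nonidentity (B : Subgroup Γ) : List Γ :=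
  (Set.toFinite {b : Γ | b ∈ B ∧ b ≠ 1}).toFinset.toList

theorem mem_nonidentity {B : Subgroup Γ} {b : Γ} : b ∈ nonidentity B ↔ b ∈ B ∧ b ≠ 1 := by
  simp [nonidentity]

theorem length_nonidentity_le (B : Subgroup Γ) : (nonidentity B).length ≤ Nat.card B := by
  rw [nonidentity, Finset.length_toList, ← Set.ncard_eq_toFinset_card]
  exact Set.ncard_le_ncard (fun b hb => hb.1) (Set.toFinite _)

/-- Step: a section which is central is a product of images of fixed points. -/
theorem central_step {B P N : Subgroup Γ} [IsMulCommutative B] (hB : ¬ IsCyclic B) (hNP : N ≤ P)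
    (hBN : B ≤ Subgroup.normalizer (N : Set Γ)) (hcop : (Nat.card B).Coprime (Nat.card N))
    {Q : Type*} [Group Q] (π : P →* Q) (hcen : ∀ y : P, (y : Γ) ∈ N → π y ∈ Subgroup.center Q)
    (y : P) (hy : (y : Γ) ∈ N) :
    ∃ d : Γ → P, (∀ b, (d b : Γ) ∈ N) ∧
      (∀ b ∈ nonidentity B, (d b : Γ) ∈ Subgroup.centralizer ({b} : Set Γ)) ∧
      π y = ((nonidentity B).map fun b => π (d b)).prod := by
  classical
  set L := nonidentity B
  have hnd : L.Nodup := Finset.nodup_toList _
  let R : Subgroup Γ :=
    { carrier := {z | ∃ (hz : z ∈ N) (d : Γ → P), (∀ b, (d b : Γ) ∈ N) ∧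
        (∀ b ∈ L, (d b : Γ) ∈ Subgroup.centralizer ({b} : Set Γ)) ∧
        π ⟨z, hNP hz⟩ = (L.map fun b => π (d b)).prod}
      one_mem' := ⟨one_mem N, fun _ => 1, fun _ => by simp, fun _ _ => by simp, by
        rw [show (⟨1, hNP (one_mem N)⟩ : P) = 1 from rfl, map_one]
        exact (List.prod_eq_one fun w hw => by
          obtain ⟨b, -, rfl⟩ := List.mem_map.mp hw; simp).symm⟩
      mul_mem' := by
        rintro z w ⟨hz, d, hd1, hd2, hd3⟩ ⟨hw, e, he1, he2, he3⟩
        refine ⟨mul_mem hz hw, fun b => d b * e b, fun b => mul_mem (hd1 b) (he1 b),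
          fun b hb => mul_mem (hd2 b hb) (he2 b hb), ?_⟩
        rw [show (⟨z * w, hNP (mul_mem hz hw)⟩ : P) = ⟨z, hNP hz⟩ * ⟨w, hNP hw⟩ from rfl,
          map_mul, hd3, he3, ← prod_map_mul_central _ _ fun b => hcen (e b) (he1 b)]
        simp only [map_mul]
      inv_mem' := by
        rintro z ⟨hz, d, hd1, hd2, hd3⟩
        refine ⟨inv_mem hz, fun b => (d b)⁻¹, fun b => inv_mem (hd1 b),
          fun b hb => inv_mem (hd2 b hb), ?_⟩
        rw [show (⟨z⁻¹, hNP (inv_mem hz)⟩ : P) = (⟨z, hNP hz⟩ : P)⁻¹ from rfl, map_inv,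
          inv_eq_iff_mul_eq_one, hd3, ← prod_map_mul_central _ _ fun b =>
            hcen (d b)⁻¹ (inv_mem (hd1 b))]
        exact List.prod_eq_one fun w hw => by
          obtain ⟨b, -, rfl⟩ := List.mem_map.mp hw; simp }
  have hle : N ≤ R := Coprime.le_of_centralizer_le hB hBN hcop fun b hb hb1 z hz => by
    obtain ⟨hzN, hzC⟩ := Subgroup.mem_inf.mp hz
    refine ⟨hzN, fun i => if i = b then ⟨z, hNP hzN⟩ else 1, fun i => ?_, fun i _ => ?_, ?_⟩
    · dsimp only
      split_ifs
      · exact hzN
      · exact one_mem N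
    · dsimp only
      split_ifs with e
      · exact e ▸ hzC
      · exact one_mem _
    · simp only [apply_ite π, map_one]
      exact (prod_map_update b _ L hnd (mem_nonidentity.mpr ⟨hb, hb1⟩)).symm
  obtain ⟨_, d, h1, h2, h3⟩ := hle hy
  exact ⟨d, h1, h2, h3⟩

/-- Every element is an ordered product of fixed points. -/
theorem exists_fixed_product {p : ℕ} [Fact p.Prime] {B P : Subgroup Γ} [IsMulCommutative B]
    (hB : ¬ IsCyclic B) (hP : IsPGroup p P) (hBP : B ≤ Subgroup.normalizer (P : Set Γ))
    (hcop : (Nat.card B).Coprime (Nat.card P)) (x : P) :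
    ∃ c : Γ → P, (∀ b ∈ nonidentity B, (c b : Γ) ∈ Subgroup.centralizer ({b} : Set Γ)) ∧
      x = ((nonidentity B).map c).prod := by
  classical
  set L := nonidentity B
  haveI := hP.isNilpotent
  obtain ⟨n, hn⟩ := (Subgroup.nilpotent_iff_lowerCentralSeries (G := P)).mp inferInstance
  let N : ℕ → Subgroup Γ := fun i => ((⊤ : Subgroup P).lowerCentralSeries i).map P.subtype
  have hNnorm : ∀ i, B ≤ Subgroup.normalizer (N i : Set Γ) := by
    intro i
    induction i with
    | zero =>
      show B ≤ Subgroup.normalizer (((⊤ : Subgroup P).lowerCentralSeries 0).map P.subtype : Set Γ)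
      rwa [Subgroup.lowerCentralSeries_zero, ← MonoidHom.range_eq_map, Subgroup.range_subtype]
    | succ i ih =>
      show B ≤ Subgroup.normalizer (((⊤ : Subgroup P).lowerCentralSeries (i + 1)).map P.subtype : Set Γ)
      rw [Subgroup.lowerCentralSeries_succ, Subgroup.map_commutator, ← MonoidHom.range_eq_map,
        Subgroup.range_subtype]
      exact Coprime.le_normalizer_commutator ih hBP
  have main : ∀ i, ∃ (c : Γ → P) (y : P), y ∈ (⊤ : Subgroup P).lowerCentralSeries i ∧
      (∀ b ∈ L, (c b : Γ) ∈ Subgroup.centralizer ({b} : Set Γ)) ∧ x = (L.map c).prod * y := by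
    intro i
    induction i with
    | zero =>
      refine ⟨fun _ => 1, x, by simp, fun b _ => by simp, ?_⟩
      rw [List.prod_eq_one fun w hw => by obtain ⟨b, -, rfl⟩ := List.mem_map.mp hw; rfl, one_mul]
    | succ i ih =>
      obtain ⟨c, y, hy, hc, hxy⟩ := ih
      haveI : ((⊤ : Subgroup P).lowerCentralSeries (i + 1)).Normal := inferInstance
      let π := QuotientGroup.mk' ((⊤ : Subgroup P).lowerCentralSeries (i + 1))
      have hcen : ∀ z : P, (z : Γ) ∈ N i → π z ∈ Subgroup.center _ := by
        rintro z ⟨w, hw, hwz⟩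
        obtain rfl : w = z := P.subtype_injective hwz
        rw [Subgroup.mem_center_iff]
        intro g
        obtain ⟨g, rfl⟩ := QuotientGroup.mk'_surjective _ g
        show π g * π w = π w * π g
        symm
        rw [← commutatorElement_eq_one_iff_mul_comm, ← map_commutatorElement,
          QuotientGroup.mk'_apply, QuotientGroup.eq_one_iff, Subgroup.lowerCentralSeries_succ]
        exact Subgroup.commutator_mem_commutator hw (Subgroup.mem_top g)
      obtain ⟨d, hd1, hd2, hd3⟩ := central_step hB (Subgroup.map_subtype_le _) (hNnorm i)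
        (hcop.coprime_dvd_right (Subgroup.card_dvd_of_le (Subgroup.map_subtype_le _))) π hcen y
        ⟨y, hy, rfl⟩
      refine ⟨fun b => c b * d b, ((L.map fun b => c b * d b).prod)⁻¹ * x, ?_,
        fun b hb => mul_mem (hc b hb) (hd2 b hb), (mul_inv_cancel_left _ _).symm⟩
      rw [← QuotientGroup.eq_one_iff]
      show π (((L.map fun b => c b * d b).prod)⁻¹ * x) = 1
      rw [map_mul, map_inv, inv_mul_eq_one, map_list_prod, List.map_map, hxy, map_mul, hd3,
        map_list_prod, List.map_map]
      rw [show (π ∘ fun b => c b * d b) = fun b => π (c b) * π (d b) from funext fun b => map_mul π _ _,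
        prod_map_mul_central _ _ fun b => hcen (d b) (hd1 b)]
      rfl
  obtain ⟨c, y, hy, hc, hxy⟩ := main n
  rw [hn, Subgroup.mem_bot] at hy
  exact ⟨c, hc, by rw [hxy, hy, mul_one]⟩

end CfsgLib.DerivedBound
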