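import Cfsg.Agent.Lib.DerivedBound.FixedProduct

/-!
# Class sizes of fixed points under coprime action
-/

set_option autoImplicit false
set_option linter.style.haveILetI false
set_option linter.unusedSectionVars false

open scoped commutatorElement

namespace CfsgLib.DerivedBound

variable {Γ : Type*} [Group Γ] [Finite Γ]

theorem relIndex_ne_zero' (H K : Subgroup Γ) : H.relIndex K ≠ 0 :=
  Subgroup.index_ne_zero_of_finite

/-- A normal section: the index is at most the product of the indices in the fixed point groups. -/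
theorem relIndex_le_prod_of_normal {p : ℕ} [Fact p.Prime] {B R Q : Subgroup Γ} [IsMulCommutative B]
    (hB : ¬ IsCyclic B) (hR : IsPGroup p R) (hBR : B ≤ Subgroup.normalizer (R : Set Γ))
    (hcop : (Nat.card B).Coprime (Nat.card R)) (hRQ : R ≤ Subgroup.normalizer (Q : Set Γ)) :
    Q.relIndex R ≤ ∏ i : Fin (nonidentity B).length,
      Q.relIndex (R ⊓ Subgroup.centralizer ({(nonidentity B).get i} : Set Γ)) := by
  haveI : (Q.subgroupOf R).Normal := by
    refine ⟨fun w hw g => ?_⟩
    exact (Subgroup.mem_normalizer_iff.mp (hRQ g.2) (w : Γ)).mp hw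
  let π := QuotientGroup.mk' (Q.subgroupOf R)
  let W : Fin (nonidentity B).length → Subgroup Γ := fun i =>
    R ⊓ Subgroup.centralizer ({(nonidentity B).get i} : Set Γ)
  let Φ : (∀ i, (W i) ⧸ Q.subgroupOf (W i)) → R ⧸ Q.subgroupOf R := fun f =>
    (List.ofFn fun i => π ⟨((f i).out : Γ), (Subgroup.mem_inf.mp (f i).out.2).1⟩).prod
  have hΦ : Function.Surjective Φ := by
    intro z
    obtain ⟨x, rfl⟩ := QuotientGroup.mk'_surjective _ z
    obtain ⟨c, hc, hx⟩ := exists_fixed_product hB hR hBR hcop x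
    let w : ∀ i, W i := fun i => ⟨(c ((nonidentity B).get i) : Γ),
      Subgroup.mem_inf.mpr ⟨(c _).2, hc _ (List.get_mem _ i)⟩⟩
    refine ⟨fun i => QuotientGroup.mk (w i), ?_⟩
    have e : (nonidentity B).map c = List.ofFn fun i => c ((nonidentity B).get i) := by
      conv_lhs => rw [← List.ofFn_get (nonidentity B), List.map_ofFn]
      rfl
    show _ = π x
    rw [hx, e, map_list_prod, List.map_ofFn]
    refine congrArg List.prod (congrArg List.ofFn (funext fun i => ?_))
    show π _ = π _
    apply QuotientGroup.eq.mpr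
    have := QuotientGroup.eq.mp
      (QuotientGroup.out_eq' (QuotientGroup.mk (w i) : W i ⧸ Q.subgroupOf (W i)))
    rw [Subgroup.mem_subgroupOf] at this ⊢
    exact this
  have h := Nat.card_le_card_of_surjective Φ hΦ
  rw [Nat.card_pi] at h
  exact h

/-- The index of an invariant subgroup of a `p`-group. -/
theorem relIndex_le_prod {p : ℕ} [Fact p.Prime] {B P : Subgroup Γ} [IsMulCommutative B]
    (hB : ¬ IsCyclic B) (hP : IsPGroup p P) (hBP : B ≤ Subgroup.normalizer (P : Set Γ))
    (hcop : (Nat.card B).Coprime (Nat.card P)) (Q : Subgroup Γ) (hQP : Q ≤ P)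
    (hBQ : B ≤ Subgroup.normalizer (Q : Set Γ)) :
    Q.relIndex P ≤ ∏ i : Fin (nonidentity B).length,
      Q.relIndex (P ⊓ Subgroup.centralizer ({(nonidentity B).get i} : Set Γ)) := by
  induction Q using WellFoundedGT.induction with
  | ind Q ih =>
    by_cases hPQ : P ≤ Q
    · rw [Subgroup.relIndex_eq_one.mpr hPQ]
      exact Finset.one_le_prod' fun b _ => Nat.one_le_iff_ne_zero.mpr (relIndex_ne_zero' _ _)
    haveI := hP.isNilpotent
    set R := Subgroup.normalizer (Q : Set Γ) ⊓ P with hRdef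
    have hQR : Q < R := by
      refine lt_of_le_of_ne (le_inf Subgroup.le_normalizer hQP) fun e => ?_
      have hlt : Q.subgroupOf P < ⊤ := lt_top_iff_ne_top.mpr fun he =>
        hPQ (Subgroup.subgroupOf_eq_top.mp he)
      obtain ⟨g, hg, hgQ⟩ := SetLike.exists_of_lt (Group.normalizerCondition_of_isNilpotent _ hlt)
      refine hgQ (Subgroup.mem_subgroupOf.mpr ?_)
      rw [e]
      refine Subgroup.mem_inf.mpr ⟨?_, g.2⟩
      rw [Coprime.mem_normalizer_iff_conj_smul]
      have h1 := congrArg (Subgroup.map P.subtype) (Coprime.mem_normalizer_iff_conj_smul.mp hg)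
      rwa [Coprime.map_conj_smul, Subgroup.map_subgroupOf_eq_of_le hQP] at h1
    have hBR : B ≤ Subgroup.normalizer (R : Set Γ) :=
      Coprime.le_normalizer_inf_of_le (fun b hb => Subgroup.le_normalizer (hBQ hb)) hBP
    have hRP : R ≤ P := inf_le_right
    have h1 := relIndex_le_prod_of_normal hB (hP.to_le hRP) hBR
      (hcop.coprime_dvd_right (Subgroup.card_dvd_of_le hRP)) (Q := Q) inf_le_left
    have h2 := ih R hQR hRP hBR
    rw [← Subgroup.relIndex_mul_relIndex Q R P hQR.le hRP]
    refine (Nat.mul_le_mul h1 h2).trans ?_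
    rw [← Finset.prod_mul_distrib]
    refine Finset.prod_le_prod' fun i _ => le_of_eq ?_
    have h3 := Subgroup.relIndex_inf_mul_relIndex Q R (P ⊓ Subgroup.centralizer ({(nonidentity B).get i} : Set Γ))
    rw [← inf_assoc, inf_eq_left.mpr hRP, inf_eq_left.mpr hQR.le] at h3
    exact h3

/-- The class of a fixed point inside a fixed point group. -/
theorem relIndex_le_card_commutator {C : Subgroup Γ} {x : Γ} (hx : x ∈ C) :
    (Subgroup.centralizer ({x} : Set Γ)).relIndex C ≤ Nat.card ↥⁅C, C⁆ := by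
  let f : C ⧸ (Subgroup.centralizer ({x} : Set Γ)).subgroupOf C → ↥⁅C, C⁆ := fun q =>
    ⟨⁅(q.out : Γ), x⁆, Subgroup.commutator_mem_commutator q.out.2 hx⟩
  refine Nat.card_le_card_of_injective f fun q r h => ?_
  have h' : ⁅(q.out : Γ), x⁆ = ⁅(r.out : Γ), x⁆ := congrArg Subtype.val h
  rw [commutatorElement_def, commutatorElement_def, mul_left_inj] at h'
  have h2 : x * ((q.out : Γ)⁻¹ * (r.out : Γ)) = ((q.out : Γ)⁻¹ * (r.out : Γ)) * x := by
    calc x * ((q.out : Γ)⁻¹ * (r.out : Γ))
        = (q.out : Γ)⁻¹ * ((q.out : Γ) * x * (q.out : Γ)⁻¹) * (r.out : Γ) := by group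
      _ = ((q.out : Γ)⁻¹ * (r.out : Γ)) * x := by rw [h']; group
  rw [← QuotientGroup.out_eq' q, ← QuotientGroup.out_eq' r]
  exact QuotientGroup.eq.mpr (Subgroup.mem_subgroupOf.mpr
    (Subgroup.mem_centralizer_singleton_iff.mpr h2.symm))

theorem le_pow_succ_of_factor_le {n M : ℕ} (hn : n ≠ 0) (hM : 1 ≤ M)
    (h : ∀ p : ℕ, p.Prime → p ^ n.factorization p ≤ M) : n ≤ M ^ (M + 1) := by
  conv_lhs => rw [← Nat.prod_factorization_pow_eq_self hn]
  rw [Finsupp.prod, Nat.support_factorization]
  refine (Finset.prod_le_prod' (g := fun _ => M)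
    fun p hp => h p (Nat.prime_of_mem_primeFactors hp)).trans ?_
  rw [Finset.prod_const]
  refine Nat.pow_le_pow_right hM ((Finset.card_le_card (t := Finset.range (M + 1)) ?_).trans_eq
    (Finset.card_range _))
  intro p hp
  rw [Finset.mem_range, Nat.lt_succ_iff]
  refine le_trans ?_ (h p (Nat.prime_of_mem_primeFactors hp))
  exact Nat.le_self_pow ((Nat.prime_of_mem_primeFactors hp).factorization_pos_of_dvd hn
    (Nat.dvd_of_mem_primeFactors hp)).ne' p

/-- A common fixed point of a noncyclic subgroup has a bounded class. -/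
theorem index_fixed_le {K B : Subgroup Γ} [IsMulCommutative B] (hB : ¬ IsCyclic B)
    (hBK : B ≤ Subgroup.normalizer (K : Set Γ)) (hcop : (Nat.card B).Coprime (Nat.card K))
    {m : ℕ} (hm : 1 ≤ m)
    (hder : ∀ b ∈ B, b ≠ 1 → Nat.card ↥⁅K ⊓ Subgroup.centralizer ({b} : Set Γ),
      K ⊓ Subgroup.centralizer ({b} : Set Γ)⁆ ≤ m)
    {x : Γ} (hxK : x ∈ K) (hxB : B ≤ Subgroup.centralizer ({x} : Set Γ)) :
    (Subgroup.centralizer ({x} : Set Γ)).relIndex K ≤
      (m ^ Nat.card B) ^ (m ^ Nat.card B + 1) := by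
  classical
  set C := Subgroup.centralizer ({x} : Set Γ)
  have hBC : B ≤ Subgroup.normalizer (C : Set Γ) := hxB.trans Subgroup.le_normalizer
  refine le_pow_succ_of_factor_le (relIndex_ne_zero' _ _) (Nat.one_le_pow _ _ hm) fun p hp => ?_
  haveI := Fact.mk hp
  obtain ⟨S, hS⟩ := Coprime.exists_invariant_sylow hBK hcop
    (Or.inl (Coprime.isSolvable_of_isMulCommutative B)) p
  set P := (S : Subgroup K).map K.subtype with hP
  have hPK : P ≤ K := Subgroup.map_subtype_le _
  have hPp : IsPGroup p P := S.2.map _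
  have hQN : B ≤ Subgroup.normalizer ((C ⊓ P : Subgroup Γ) : Set Γ) :=
    Coprime.le_normalizer_inf_of_le hBC hS
  have hb := relIndex_le_prod hB hPp hS (hcop.coprime_dvd_right (Subgroup.card_dvd_of_le hPK))
    (C ⊓ P) inf_le_right hQN
  have hbound : C.relIndex P ≤ m ^ Nat.card B := by
    rw [← Subgroup.inf_relIndex_right]
    refine hb.trans ((Finset.prod_le_pow_card _ _ m fun i _ => ?_).trans
      (Nat.pow_le_pow_right hm (by rw [Finset.card_univ, Fintype.card_fin]; exact length_nonidentity_le B)))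
    set b := (nonidentity B).get i
    obtain ⟨hbB, hb1⟩ := mem_nonidentity.mp (List.get_mem (nonidentity B) i)
    have e1 : (C ⊓ P).relIndex (P ⊓ Subgroup.centralizer ({b} : Set Γ)) =
        C.relIndex (P ⊓ Subgroup.centralizer ({b} : Set Γ)) := by
      rw [← Subgroup.inf_relIndex_right, inf_assoc, ← inf_assoc P P, inf_idem,
        Subgroup.inf_relIndex_right]
    rw [e1]
    refine le_trans ?_ ((relIndex_le_card_commutator (C := K ⊓ Subgroup.centralizer ({b} : Set Γ))
      (x := x) (Subgroup.mem_inf.mpr ⟨hxK, ?_⟩)).trans (hder b hbB hb1))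
    · exact Subgroup.relIndex_le_of_le_right (inf_le_inf_right _ hPK) (relIndex_ne_zero' _ _)
    · rw [Subgroup.mem_centralizer_singleton_iff]
      exact (Subgroup.mem_centralizer_singleton_iff.mp (hxB hbB)).symm
  refine le_trans ?_ hbound
  have hK0 : Nat.card K ≠ 0 := Nat.card_pos.ne'
  have eK : C.relIndex K * Nat.card ↥(C.subgroupOf K) = Nat.card K := Subgroup.index_mul_card _
  have eP : C.relIndex P * Nat.card ↥(C.subgroupOf P) = Nat.card P := Subgroup.index_mul_card _
  have hPc : Nat.card P = p ^ (Nat.card K).factorization p := by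
    rw [hP, Subgroup.card_map_of_injective K.subtype_injective, S.card_eq_multiplicity]
  have hdv : Nat.card ↥(C.subgroupOf P) ∣ Nat.card ↥(C.subgroupOf K) := by
    have e1 : ∀ L : Subgroup Γ, Nat.card ↥(C.subgroupOf L) = Nat.card ↥(C ⊓ L) := fun L => by
      rw [← Subgroup.inf_subgroupOf_right, Nat.card_congr (Subgroup.subgroupOfEquivOfLe inf_le_right).toEquiv]
    rw [e1, e1]
    exact Subgroup.card_dvd_of_le (inf_le_inf_left _ hPK)
  have hf : (C.relIndex K).factorization p + (Nat.card ↥(C.subgroupOf K)).factorization p =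
      (Nat.card K).factorization p := by
    rw [← eK, Nat.factorization_mul (relIndex_ne_zero' _ _) Nat.card_pos.ne']
    rfl
  obtain ⟨j, -, hj⟩ := (Nat.dvd_prime_pow hp).mp (hPc ▸ Dvd.intro_left _ eP)
  rw [hj] at hdv eP
  have hjle : j ≤ (Nat.card ↥(C.subgroupOf K)).factorization p :=
    (hp.pow_dvd_iff_le_factorization Nat.card_pos.ne').mp hdv
  have h3 : p ^ (C.relIndex K).factorization p * p ^ j ≤ C.relIndex P * p ^ j := by
    rw [eP, hPc, ← hf, ← pow_add]
    exact Nat.pow_le_pow_right hp.pos (by omega)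
  exact Nat.le_of_mul_le_mul_right h3 (pow_pos hp.pos j)

end CfsgLib.DerivedBound
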