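import Cfsg.Agent.Lib.DerivedBound.Index

/-!
# All elements of prime power order have bounded classes under rank three action
-/

set_option autoImplicit false
set_option linter.style.haveILetI false
set_option linter.unusedSectionVars false

open scoped commutatorElement

namespace CfsgLib.DerivedBound

variable {Γ : Type*} [Group Γ] [Finite Γ]

theorem relIndex_mul_le (K : Subgroup Γ) (x y : Γ) :
    (Subgroup.centralizer ({x * y} : Set Γ)).relIndex K ≤
      (Subgroup.centralizer ({x} : Set Γ)).relIndex K *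
        (Subgroup.centralizer ({y} : Set Γ)).relIndex K := by
  refine le_trans ?_ Subgroup.relIndex_inf_le
  refine Subgroup.relIndex_le_of_le_left (fun g hg => ?_) (relIndex_ne_zero' _ _)
  obtain ⟨h1, h2⟩ := Subgroup.mem_inf.mp hg
  rw [Subgroup.mem_centralizer_singleton_iff] at h1 h2 ⊢
  rw [← mul_assoc, h1, mul_assoc, h2, mul_assoc]

theorem relIndex_prod_le (K : Subgroup Γ) (n : ℕ) : ∀ l : List Γ,
    (∀ y ∈ l, (Subgroup.centralizer ({y} : Set Γ)).relIndex K ≤ n) →
      (Subgroup.centralizer ({l.prod} : Set Γ)).relIndex K ≤ n ^ l.length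
  | [], _ => by
    rw [List.prod_nil, List.length_nil, pow_zero]
    refine le_of_eq (Subgroup.relIndex_eq_one.mpr fun g _ => ?_)
    rw [Subgroup.mem_centralizer_singleton_iff, mul_one, one_mul]
  | y :: l, h => by
    rw [List.prod_cons, List.length_cons, pow_succ']
    exact (relIndex_mul_le K y l.prod).trans (Nat.mul_le_mul (h y (List.mem_cons_self ..))
      (relIndex_prod_le K n l fun z hz => h z (List.mem_cons_of_mem _ hz)))

theorem exists_complement_pair {A : Subgroup Γ} {q : ℕ} [Fact q.Prime]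
    (hAexp : ∀ a ∈ A, a ^ q = 1) (hAcard : Nat.card A = q ^ 3) [IsMulCommutative A]
    {a : Γ} (ha : a ∈ A) (ha1 : a ≠ 1) :
    ∃ B : Subgroup Γ, B ≤ A ∧ a ∉ B ∧ ¬ IsCyclic B := by
  have hq : q.Prime := Fact.out
  have hz : ∀ b : Γ, b ∈ A → b ≠ 1 → Nat.card (Subgroup.zpowers b) = q := fun b hb hb1 => by
    rw [Nat.card_zpowers]
    exact orderOf_eq_prime (hAexp b hb) hb1
  have hcomm : ∀ s t : Γ, s ∈ A → t ∈ A → s * t = t * s := fun s t hs ht =>
    congrArg Subtype.val (mul_comm' (⟨s, hs⟩ : A) ⟨t, ht⟩)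
  have hnorm : ∀ X Y : Subgroup Γ, X ≤ A → Y ≤ A → Y ≤ Subgroup.normalizer (X : Set Γ) := by
    intro X Y hX hY
    refine le_trans ?_ (Subgroup.centralizer_le_normalizer (X : Set Γ))
    exact fun y hy => Subgroup.mem_centralizer_iff.mpr fun x hx => hcomm x y (hX hx) (hY hy)
  have hprime : ∀ b : Γ, b ∈ A → b ≠ 1 → ∀ X : Subgroup Γ, b ∉ X →
      Disjoint X (Subgroup.zpowers b) := by
    intro b hb hb1 X hbX
    rw [disjoint_iff, Subgroup.eq_bot_iff_forall]
    rintro w ⟨hwX, hwb⟩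
    by_contra hw
    refine hbX ?_
    have e : Subgroup.zpowers w = Subgroup.zpowers b := by
      refine Subgroup.eq_of_le_of_card_ge (Subgroup.zpowers_le.mpr hwb) ?_
      rw [hz b hb hb1, hz w ((Subgroup.zpowers_le.mpr hb) hwb) hw]
    exact (Subgroup.zpowers_le.mpr hwX) (e ▸ Subgroup.mem_zpowers b)
  obtain ⟨u, hu, hua⟩ := SetLike.exists_of_lt (lt_of_le_of_ne (Subgroup.zpowers_le.mpr ha) fun e => by
    have h := hz a ha ha1
    rw [e, hAcard] at h
    exact absurd h (by
      have := Nat.pow_lt_pow_right hq.one_lt (show 1 < 3 by norm_num)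
      rw [pow_one] at this; omega))
  have hu1 : u ≠ 1 := fun e => hua (e ▸ one_mem _)
  set X := Subgroup.zpowers a ⊔ Subgroup.zpowers u
  have hXA : X ≤ A := sup_le (Subgroup.zpowers_le.mpr ha) (Subgroup.zpowers_le.mpr hu)
  have hcardX : Nat.card X ≤ q * q := by
    have h := Coprime.card_sup_mul_card_inf (K := Subgroup.zpowers a) (S := Subgroup.zpowers u)
      (hnorm _ _ (Subgroup.zpowers_le.mpr ha) (Subgroup.zpowers_le.mpr hu))
    rw [hz a ha ha1, hz u hu hu1] at h
    rw [← h]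
    exact Nat.le_mul_of_pos_right _ Nat.card_pos
  obtain ⟨v, hv, hvX⟩ := SetLike.exists_of_lt (lt_of_le_of_ne hXA fun e => by
    rw [e, hAcard] at hcardX
    have := Nat.pow_lt_pow_right hq.one_lt (show 2 < 3 by norm_num)
    rw [pow_two] at this; omega)
  have hv1 : v ≠ 1 := fun e => hvX (e ▸ one_mem _)
  refine ⟨Subgroup.zpowers u ⊔ Subgroup.zpowers v,
    sup_le (Subgroup.zpowers_le.mpr hu) (Subgroup.zpowers_le.mpr hv), fun haB => ?_, ?_⟩
  · rw [← SetLike.mem_coe, Subgroup.coe_mul_of_right_le_normalizer_left _ _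
      (hnorm _ _ (Subgroup.zpowers_le.mpr hu) (Subgroup.zpowers_le.mpr hv)), Set.mem_mul] at haB
    obtain ⟨s, hs, t, ht, hst⟩ := haB
    have htX : t ∈ X := by
      rw [show t = s⁻¹ * a by rw [← hst, inv_mul_cancel_left]]
      exact mul_mem (inv_mem (Subgroup.mem_sup_right hs)) (Subgroup.mem_sup_left (Subgroup.mem_zpowers a))
    have ht1 : t = 1 := Subgroup.disjoint_def.mp (hprime v hv hv1 X hvX) htX ht
    rw [ht1, mul_one] at hst
    subst hst
    have : u ∈ Subgroup.zpowers s := by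
      have e : Subgroup.zpowers s = Subgroup.zpowers u := Subgroup.eq_of_le_of_card_ge
        (Subgroup.zpowers_le.mpr hs) (by rw [hz s ha ha1, hz u hu hu1])
      rw [e]; exact Subgroup.mem_zpowers u
    exact hua this
  · refine Coprime.not_isCyclic_of_exponent (p := q)
      (fun b hb => hAexp b ((sup_le (Subgroup.zpowers_le.mpr hu) (Subgroup.zpowers_le.mpr hv)) hb))
      hq.pos ?_
    rw [← hz u hu hu1]
    refine lt_of_le_of_ne (Subgroup.card_le_of_le le_sup_left) fun e => hvX ?_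
    refine Subgroup.mem_sup_right ?_
    rw [Subgroup.eq_of_le_of_card_ge (le_sup_left : Subgroup.zpowers u ≤ _) e.ge]
    exact Subgroup.mem_sup_right (Subgroup.mem_zpowers v)

/-- The bound for classes of elements of prime power order. -/
def ppBound (q m : ℕ) : ℕ := ((m ^ q ^ 3) ^ (m ^ q ^ 3 + 1)) ^ (q ^ 3 * q ^ 3)

theorem index_sylow_element_le {K A : Subgroup Γ} [IsMulCommutative A] {q m : ℕ} [Fact q.Prime]
    (hAexp : ∀ a ∈ A, a ^ q = 1) (hAcard : Nat.card A = q ^ 3)
    (hAK : A ≤ Subgroup.normalizer (K : Set Γ)) (hcop : (Nat.card A).Coprime (Nat.card K))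
    (hm : 1 ≤ m)
    (hder : ∀ b ∈ A, b ≠ 1 → Nat.card ↥⁅K ⊓ Subgroup.centralizer ({b} : Set Γ),
      K ⊓ Subgroup.centralizer ({b} : Set Γ)⁆ ≤ m)
    {p : ℕ} [Fact p.Prime] {P : Subgroup Γ} (hPK : P ≤ K) (hP : IsPGroup p P)
    (hAP : A ≤ Subgroup.normalizer (P : Set Γ)) {x : Γ} (hx : x ∈ P) :
    (Subgroup.centralizer ({x} : Set Γ)).relIndex K ≤ ppBound q m := by
  have hq : q.Prime := Fact.out
  set M := (m ^ q ^ 3) ^ (m ^ q ^ 3 + 1) with hMdef
  have hM : 1 ≤ M := Nat.one_le_pow _ _ (Nat.one_le_pow _ _ hm)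
  have hlen : ∀ B : Subgroup Γ, B ≤ A → (nonidentity B).length ≤ q ^ 3 := fun B hB =>
    hAcard ▸ (length_nonidentity_le B).trans (Subgroup.card_le_of_le hB)
  have hAnc : ¬ IsCyclic A := Coprime.not_isCyclic_of_exponent hAexp hq.pos (by
    rw [hAcard]
    calc q = q ^ 1 := (pow_one q).symm
      _ < q ^ 3 := Nat.pow_lt_pow_right hq.one_lt (by norm_num))
  obtain ⟨c, hc, hxc⟩ := exists_fixed_product hAnc hP hAP
    (hcop.coprime_dvd_right (Subgroup.card_dvd_of_le hPK)) ⟨x, hx⟩
  have hx' : x = ((nonidentity A).map fun a => (c a : Γ)).prod := by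
    have := congrArg (P.subtype) hxc
    rwa [map_list_prod, List.map_map] at this
  have step : ∀ a ∈ nonidentity A, (Subgroup.centralizer ({(c a : Γ)} : Set Γ)).relIndex K ≤
      M ^ q ^ 3 := by
    intro a haL
    obtain ⟨ha, ha1⟩ := mem_nonidentity.mp haL
    obtain ⟨B, hBA, haB, hBnc⟩ := exists_complement_pair hAexp hAcard ha ha1
    haveI : IsMulCommutative B := ⟨⟨fun s t => Subtype.ext
      (congrArg (Subtype.val : A → Γ) (mul_comm' (⟨s, hBA s.2⟩ : A) ⟨t, hBA t.2⟩))⟩⟩
    have hAC : A ≤ Subgroup.centralizer ({a} : Set Γ) := fun s hs =>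
      Subgroup.mem_centralizer_singleton_iff.mpr
        (congrArg Subtype.val (mul_comm' (⟨s, hs⟩ : A) ⟨a, ha⟩))
    set Pa := P ⊓ Subgroup.centralizer ({a} : Set Γ) with hPa
    have hBPa : B ≤ Subgroup.normalizer (Pa : Set Γ) :=
      Coprime.le_normalizer_inf_of_le (hBA.trans hAP)
        ((hBA.trans hAC).trans Subgroup.le_normalizer)
    obtain ⟨d, hd, hcd⟩ := exists_fixed_product hBnc (hP.to_le inf_le_left) hBPa
      ((hcop.coprime_dvd_left (Subgroup.card_dvd_of_le hBA)).coprime_dvd_right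
        (Subgroup.card_dvd_of_le (inf_le_left.trans hPK)))
      ⟨(c a : Γ), Subgroup.mem_inf.mpr ⟨(c a).2, hc a haL⟩⟩
    have hcd' : (c a : Γ) = ((nonidentity B).map fun b => (d b : Γ)).prod := by
      have := congrArg (Pa.subtype) hcd
      rwa [map_list_prod, List.map_map] at this
    rw [hcd']
    refine (relIndex_prod_le K M _ ?_).trans
      (Nat.pow_le_pow_right hM (by rw [List.length_map]; exact hlen B hBA))
    intro y hy
    obtain ⟨b, hbL, rfl⟩ := List.mem_map.mp hy
    obtain ⟨hb, hb1⟩ := mem_nonidentity.mp hbL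
    obtain ⟨hdP, hda⟩ := Subgroup.mem_inf.mp (d b).2
    set E := A ⊓ Subgroup.centralizer ({(d b : Γ)} : Set Γ) with hE
    haveI : IsMulCommutative E := ⟨⟨fun s t => Subtype.ext
      (congrArg (Subtype.val : A → Γ) (mul_comm' (⟨s, (Subgroup.mem_inf.mp s.2).1⟩ : A)
        ⟨t, (Subgroup.mem_inf.mp t.2).1⟩))⟩⟩
    have haE : a ∈ E := Subgroup.mem_inf.mpr ⟨ha, Subgroup.mem_centralizer_singleton_iff.mpr
      (Subgroup.mem_centralizer_singleton_iff.mp hda).symm⟩
    have hbE : b ∈ E := Subgroup.mem_inf.mpr ⟨hBA hb, Subgroup.mem_centralizer_singleton_iff.mpr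
      (Subgroup.mem_centralizer_singleton_iff.mp (hd b hbL)).symm⟩
    have hEnc : ¬ IsCyclic E := by
      refine Coprime.not_isCyclic_of_exponent (fun s hs => hAexp s (Subgroup.mem_inf.mp hs).1)
        hq.pos ?_
      have hzb : Nat.card (Subgroup.zpowers b) = q := by
        rw [Nat.card_zpowers]; exact orderOf_eq_prime (hAexp b (hBA hb)) hb1
      rw [← hzb]
      refine lt_of_le_of_ne (Subgroup.card_le_of_le (Subgroup.zpowers_le.mpr hbE)) fun e => haB ?_
      have := Subgroup.eq_of_le_of_card_ge (Subgroup.zpowers_le.mpr hbE) e.ge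
      exact (Subgroup.zpowers_le.mpr hb) (this ▸ haE)
    refine (index_fixed_le hEnc ((inf_le_left : E ≤ A).trans hAK)
      (hcop.coprime_dvd_left (Subgroup.card_dvd_of_le inf_le_left)) hm
      (fun s hs => hder s (Subgroup.mem_inf.mp hs).1) (hPK hdP) inf_le_right).trans ?_
    have hEc : m ^ Nat.card E ≤ m ^ q ^ 3 :=
      Nat.pow_le_pow_right hm (hAcard ▸ Subgroup.card_le_of_le inf_le_left)
    exact (Nat.pow_le_pow_left hEc _).trans
      (Nat.pow_le_pow_right (Nat.one_le_pow _ _ hm) (Nat.add_le_add_right hEc 1))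
  rw [hx']
  refine (relIndex_prod_le K (M ^ q ^ 3) _ ?_).trans ?_
  · intro y hy
    obtain ⟨a, haL, rfl⟩ := List.mem_map.mp hy
    exact step a haL
  · rw [List.length_map, ppBound, ← hMdef, pow_mul]
    exact Nat.pow_le_pow_right (Nat.one_le_pow _ _ hM) (hlen A le_rfl)

end CfsgLib.DerivedBound
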